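import Cfsg.Agent.H417.JOneDeg
import Cfsg.Agent.S4273

/-!
# The degrees of `J₁` are `1, 56, 76, 77, 120, 133, 209` (helper815, for S4908)
-/

set_option autoImplicit false

namespace Cfsg.Agent.H815.S8.J1Deg

open Cfsg Subgroup
open Cfsg.Agent.Characters.Core
open Cfsg.Agent.M23Order.Base
open Cfsg.Agent.H413.JOneSpec
open Cfsg.Agent.SporRec.J1.Defs
open Cfsg.Agent.H417 Cfsg.Agent.H417.JOneDeg

universe u

variable {K : Type u} [Group K]

theorem arith {a b c d e f g : ℕ} (h0 : 1 + 3136 * a + 5776 * b + 5929 * c + 14400 * d + 17424 * e + 17689 * f + 43681 * g = 175560)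
    (h7 : 1 + b + d + e + g = 7) (h11 : 1 + a + b + d + f = 11) (h19 : 1 + a + c + d + e = 9) (hd : d = 3) :
    a = 2 ∧ b = 2 ∧ c = 3 ∧ d = 3 ∧ e = 0 ∧ f = 3 ∧ g = 1 := by
  subst hd
  have he : e ≤ 3 := by omega
  have hg : g ≤ 3 := by omega
  have ha : a ≤ 5 := by omega
  interval_cases e <;> interval_cases g <;> interval_cases a <;> omega

/-- the multiplicities of the degrees -/
theorem counts [Finite K] [IsSimpleGroup K] (h : Local K) (hc : Nat.card K = 175560) :
    (∀ χ : IrrCharacter K, dg χ ∈ ({1, 56, 76, 77, 120, 133, 209} : Finset ℕ)) ∧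
      ∀ d ∈ ({1, 56, 76, 77, 120, 133, 209} : Finset ℕ), ∃ χ : IrrCharacter K, dg χ = d := by
  classical
  have := finite_irr (G := K)
  let _ := Fintype.ofFinite (IrrCharacter K)
  have f7 : Fact (Nat.Prime 7) := ⟨by norm_num⟩
  have f11 : Fact (Nat.Prime 11) := ⟨by norm_num⟩
  have f19 : Fact (Nat.Prime 19) := ⟨by norm_num⟩
  obtain ⟨P, hP, ⟨D⟩⟩ := BlockCount.exists_SC (G := K) 7 (by norm_num) (by rw [hc]; norm_num)
    (by rw [hc]; norm_num) (fun y hy => by rw [card_cent h hc (by rw [hy]; unfold Big; tauto), hy]) (e := 6) (t := 1)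
    (by rw [hc]) (by norm_num)
  obtain ⟨Q, hQ, ⟨E⟩⟩ := BlockCount.exists_SC (G := K) 11 (by norm_num) (by rw [hc]; norm_num)
    (by rw [hc]; norm_num) (fun y hy => by rw [card_cent h hc (by rw [hy]; unfold Big; tauto), hy]) (e := 10) (t := 1)
    (by rw [hc]) (by norm_num)
  obtain ⟨R, hR, ⟨F⟩⟩ := BlockCount.exists_SC (G := K) 19 (by norm_num) (by rw [hc]; norm_num)
    (by rw [hc]; norm_num) (fun y hy => by rw [card_cent h hc (by rw [hy]; unfold Big; tauto), hy]) (e := 6) (t := 3)
    (by rw [hc]) (by norm_num)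
  have hperf : commutator K = ⊤ := MTwelve.SmallDegree.commutator_eq_top_of_card (by rw [hc]; norm_num)
  have hmem : ∀ χ : IrrCharacter K, dg χ ∈ ({1, 56, 76, 77, 120, 132, 133, 209} : Finset ℕ) := by
    intro χ
    have h1 := Divs.all_divs _ primes_ok (N := 175560) rfl deg_list (d := dg χ) (by rw [← hc]; exact dg_dvd χ)
    have h2 := BlockCount.mod_cases D (by norm_num) (by norm_num) (by norm_num) χ
    have h3 := BlockCount.mod_cases E (by norm_num) (by norm_num) (by norm_num) χ
    have h4 := BlockCount.mod_cases F (by norm_num) (by norm_num) (by norm_num) χ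
    have h5 := ne_210 h hc χ
    have h6 : dg χ ^ 2 ≤ 175560 := by
      have h7 := sum_dg_sq_le {χ}
      rw [Finset.sum_singleton, hc] at h7
      exact h7
    simp only [Finset.mem_insert, Finset.mem_singleton]
    simp only [Bool.or_eq_true, decide_eq_true_eq, Bool.not_eq_true', beq_iff_eq, Bool.or_eq_false_iff,
      beq_eq_false_iff_ne] at h1
    omega
  have h1 : cnt (fun χ : IrrCharacter K => dg χ) 1 = 1 := by
    rw [cnt, Finset.card_eq_one]
    refine ⟨⟨1, isIrr_one⟩, ?_⟩
    ext χ
    rw [Finset.mem_filter, Finset.mem_singleton]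
    constructor
    · rintro ⟨-, h1⟩
      exact Subtype.ext (coe_eq_one_of_dg hperf h1)
    · rintro rfl
      exact ⟨Finset.mem_univ _, dg_of_eq (by simp)⟩
  have hsum := sum_eq (fun χ : IrrCharacter K => dg χ) _ hmem (fun d => d ^ 2)
  rw [sum_dg_sq, hc] at hsum
  have e7 := BlockCount.card_ne_zero D (by norm_num) (by norm_num) (by norm_num)
  have e11 := BlockCount.card_ne_zero E (by norm_num) (by norm_num) (by norm_num)
  have e19 := BlockCount.card_ne_zero F (by norm_num) (by norm_num) (by norm_num)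
  have x19 := BlockCount.card_exc F (by norm_num) (by norm_num) (by norm_num)
  rw [card_filter_eq (fun χ : IrrCharacter K => dg χ) _ hmem (fun d => d % 7 ≠ 0)] at e7
  rw [card_filter_eq (fun χ : IrrCharacter K => dg χ) _ hmem (fun d => d % 11 ≠ 0)] at e11
  rw [card_filter_eq (fun χ : IrrCharacter K => dg χ) _ hmem (fun d => d % 19 ≠ 0)] at e19
  rw [card_filter_eq (fun χ : IrrCharacter K => dg χ) _ hmem (fun d => d % 19 = 6 ∨ d % 19 = 19 - 6)] at x19
  rw [show (({1, 56, 76, 77, 120, 132, 133, 209} : Finset ℕ).filter fun d => d % 7 ≠ 0) =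
    {1, 76, 120, 132, 209} by decide +kernel] at e7
  rw [show (({1, 56, 76, 77, 120, 132, 133, 209} : Finset ℕ).filter fun d => d % 11 ≠ 0) =
    {1, 56, 76, 120, 133} by decide +kernel] at e11
  rw [show (({1, 56, 76, 77, 120, 132, 133, 209} : Finset ℕ).filter fun d => d % 19 ≠ 0) =
    {1, 56, 77, 120, 132} by decide +kernel] at e19
  rw [show (({1, 56, 76, 77, 120, 132, 133, 209} : Finset ℕ).filter fun d => d % 19 = 6 ∨ d % 19 = 19 - 6) =
    {120} by decide +kernel] at x19
  repeat rw [Finset.sum_insert (by decide)] at hsum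
  repeat rw [Finset.sum_insert (by decide)] at e7
  repeat rw [Finset.sum_insert (by decide)] at e11
  repeat rw [Finset.sum_insert (by decide)] at e19
  rw [Finset.sum_singleton] at hsum e7 e11 e19 x19
  rw [h1] at hsum e7 e11 e19
  have hz : ∀ d : ℕ, cnt (fun χ : IrrCharacter K => dg χ) d ≠ 0 → ∃ χ : IrrCharacter K, dg χ = d := by
    intro d hd
    by_contra hno
    apply hd
    rw [cnt, Finset.card_eq_zero, Finset.filter_eq_empty_iff]
    intro χ _ h2
    exact hno ⟨χ, h2⟩
  generalize hg56 : cnt (fun χ : IrrCharacter K => dg χ) 56 = a at *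
  generalize hg76 : cnt (fun χ : IrrCharacter K => dg χ) 76 = b at *
  generalize hg77 : cnt (fun χ : IrrCharacter K => dg χ) 77 = c at *
  generalize hg120 : cnt (fun χ : IrrCharacter K => dg χ) 120 = d at *
  generalize hg132 : cnt (fun χ : IrrCharacter K => dg χ) 132 = e at *
  generalize hg133 : cnt (fun χ : IrrCharacter K => dg χ) 133 = f at *
  generalize hg209 : cnt (fun χ : IrrCharacter K => dg χ) 209 = g at *
  norm_num at hsum e7 e11 e19 x19
  have hall : a = 2 ∧ b = 2 ∧ c = 3 ∧ d = 3 ∧ e = 0 ∧ f = 3 ∧ g = 1 := by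
    clear hg56 hg76 hg77 hg120 hg132 hg133 hg209 hmem hz h1
    exact arith (by linarith) (by linarith) (by linarith) (by linarith) (by linarith)
  obtain ⟨rfl, rfl, rfl, rfl, rfl, rfl, rfl⟩ := hall
  refine ⟨fun χ => ?_, fun d hd => ?_⟩
  · have h2 := hmem χ
    have h3 : dg χ ≠ 132 := by
      intro h4
      have : χ ∈ Finset.univ.filter fun χ : IrrCharacter K => dg χ = 132 :=
        Finset.mem_filter.2 ⟨Finset.mem_univ _, h4⟩
      rw [cnt, Finset.card_eq_zero] at hg132
      rw [hg132] at this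
      simp at this
    simp only [Finset.mem_insert, Finset.mem_singleton] at h2 ⊢
    tauto
  · simp only [Finset.mem_insert, Finset.mem_singleton] at hd
    rcases hd with rfl | rfl | rfl | rfl | rfl | rfl | rfl
    · exact hz _ (by omega)
    · exact hz _ (by omega)
    · exact hz _ (by omega)
    · exact hz _ (by omega)
    · exact hz _ (by omega)
    · exact hz _ (by omega)
    · exact hz _ (by omega)

/-- **The degrees of `J₁`.** -/
theorem charDegrees_eq {X : Type u} [Group X] [Finite X] (hX : IsJ1 X) :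
    charDegrees X = {1, 56, 76, 77, 120, 133, 209} := by
  have hs := hX.1
  obtain ⟨e⟩ := Cfsg.Agent.S4273.isoJ1 hX.2
  have : IsSimpleGroup Spor.J1 := SporadicB.J1.Main.isJ1.1
  have hfin : Finite Spor.J1 := Nat.finite_of_card_ne_zero (by rw [H413.JOneLocal.card_J1]; norm_num)
  rw [H424.DegTools.charDegrees_congr e]
  obtain ⟨h1, h2⟩ := counts H413.JOneLocal.isLocal H413.JOneLocal.card_J1
  ext d
  constructor
  · rintro ⟨χ, rfl⟩
    have h3 := h1 χ
    simp only [Finset.mem_insert, Finset.mem_singleton] at h3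
    exact h3
  · intro hd
    obtain ⟨χ, hχ⟩ := h2 d (by simpa using hd)
    exact ⟨χ, hχ⟩

end Cfsg.Agent.H815.S8.J1Deg
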