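import Cfsg.Agent.H815.S8.Soc1Tools
import Cfsg.Agent.H815.S8.J1Deg
import Cfsg.Agent.H603.FD.Spor

/-!
# S4908, SOC1 of `J₁` (helper815)
-/

set_option autoImplicit false

namespace Cfsg.Agent.H815.S8

open Cfsg Subgroup
open Cfsg.Agent.H691.AN (AlmostSimple)
open Cfsg.Agent.H704.S8
open Cfsg.Agent.H487.AN (Has has_m22)

universe u v

/-- the degrees of `J₁` -/
abbrev DJ1 : Set ℕ := {1, 56, 76, 77, 120, 133, 209}

theorem dj1_primes {p d : ℕ} (hp : p.Prime) (hd : d ∈ DJ1) (h : p ∣ d) :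
    p = 2 ∨ p = 3 ∨ p = 5 ∨ p = 7 ∨ p = 11 ∨ p = 19 := by
  have h1 : p ∣ 175560 := by
    simp only [DJ1, Set.mem_insert_iff, Set.mem_singleton_iff] at hd
    rcases hd with rfl | rfl | rfl | rfl | rfl | rfl | rfl
    all_goals exact h.trans (by norm_num)
  rw [show 175560 = 2 * 2 * 2 * 3 * 5 * 7 * 11 * 19 by norm_num] at h1
  simp only [hp.dvd_mul] at h1
  have key : ∀ q : ℕ, q.Prime → p ∣ q → p = q := fun q hq h => (Nat.prime_dvd_prime_iff_eq hp hq).1 h
  rcases h1 with ((((((h1 | h1) | h1) | h1) | h1) | h1) | h1) | h1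
  all_goals first
    | (have := key 2 (by norm_num) h1; tauto)
    | (have := key 3 (by norm_num) h1; tauto)
    | (have := key 5 (by norm_num) h1; tauto)
    | (have := key 7 (by norm_num) h1; tauto)
    | (have := key 11 (by norm_num) h1; tauto)
    | (have := key 19 (by norm_num) h1; tauto)

theorem dj1_pp (p k : ℕ) (hp : p.Prime) (hk : 0 < k) : p ^ k ∉ DJ1 := by
  intro hd
  have h0 : p ∣ p ^ k := dvd_pow_self p hk.ne'
  have h1 : 1 < p ^ k := Nat.one_lt_pow hk.ne' hp.one_lt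
  have key : ∀ a b : ℕ, a.Prime → b.Prime → a ≠ b → ¬ (a ∣ p ^ k ∧ b ∣ p ^ k) := by
    rintro a b ha hb hab ⟨h2, h3⟩
    have h4 := (Nat.prime_dvd_prime_iff_eq ha hp).1 (ha.dvd_of_dvd_pow h2)
    have h5 := (Nat.prime_dvd_prime_iff_eq hb hp).1 (hb.dvd_of_dvd_pow h3)
    exact hab (h4.trans h5.symm)
  simp only [DJ1, Set.mem_insert_iff, Set.mem_singleton_iff] at hd
  rcases hd with h | h | h | h | h | h | h
  · omega
  · exact key 2 7 (by norm_num) (by norm_num) (by norm_num) (by rw [h]; norm_num)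
  · exact key 2 19 (by norm_num) (by norm_num) (by norm_num) (by rw [h]; norm_num)
  · exact key 7 11 (by norm_num) (by norm_num) (by norm_num) (by rw [h]; norm_num)
  · exact key 2 3 (by norm_num) (by norm_num) (by norm_num) (by rw [h]; norm_num)
  · exact key 7 19 (by norm_num) (by norm_num) (by norm_num) (by rw [h]; norm_num)
  · exact key 11 19 (by norm_num) (by norm_num) (by norm_num) (by rw [h]; norm_num)

theorem dj1_13 {p : ℕ} (hp : p.Prime) (h : p ≠ 2 ∧ p ≠ 3 ∧ p ≠ 5 ∧ p ≠ 7 ∧ p ≠ 11 ∧ p ≠ 19) : ¬ ∃ d ∈ DJ1, p ∣ d := by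
  rintro ⟨d, h1, h2⟩
  have := dj1_primes hp h1 h2
  omega

theorem dj1_alt (n : ℕ) (h7 : 7 ≤ n) (h : n - 1 ∈ DJ1) (hr : ∀ r : ℕ, r.Prime → r ≤ n → ∃ d ∈ DJ1, r ∣ d) : False := by
  have h13 : n < 13 := by
    by_contra hcon
    push Not at hcon
    exact dj1_13 (by norm_num) (by norm_num) (hr 13 (by norm_num) hcon)
  simp only [DJ1, Set.mem_insert_iff, Set.mem_singleton_iff] at h
  omega

/-- a small degree -/
theorem dj1_small {A : Type u} [Group A] [Finite A] {S : Subgroup A} (hA : AlmostSimple A S) (h : charDegrees A ⊆ DJ1)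
    (hs : IsSporadicGroup S) {m : ℕ} (hm : Has S m) (h1 : 1 < m) (h2 : m < 28) : False := by
  rcases as_has_two hA h hm (by omega) (as_index_spor hA hs) with h3 | h3
  · simp only [DJ1, Set.mem_insert_iff, Set.mem_singleton_iff] at h3
    omega
  · simp only [DJ1, Set.mem_insert_iff, Set.mem_singleton_iff] at h3
    omega

theorem has_of_mem {K : Type u} [Group K] {m : ℕ} (h : m ∈ charDegrees K) : Has K m :=
  H681.DegBasic.mem_charDegrees.1 h

/-- a large prime -/
theorem dj1_big {A : Type u} [Group A] [Finite A] {S : Subgroup A} (hA : AlmostSimple A S) (h : charDegrees A ⊆ DJ1)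
    {N : ℕ} (hc : Nat.card S = N) (p : ℕ) (hp : p.Prime) (hpN : p ∣ N)
    (hne : p ≠ 2 ∧ p ≠ 3 ∧ p ≠ 5 ∧ p ≠ 7 ∧ p ≠ 11 ∧ p ≠ 19) : False :=
  dj1_13 hp hne (as_prime hA h hp (hc ▸ hpN))

theorem dj1_spor {X : Type v} [Group X] (hX : Spor.IsoJ1 X) {A : Type u} [Group A] [Finite A] {S : Subgroup A}
    (hA : AlmostSimple A S) (h : charDegrees A ⊆ DJ1) (hs : IsSporadicGroup S) : Nonempty (S ≃* X) := by
  have h0 := hs
  have h45 : ∀ m : ℕ, Has S m → m = 45 ∨ m = 36 ∨ m = 8910 → False := by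
    intro m hm h1
    have h2 := as_has_two hA h hm (by omega) (as_index_spor hA hs)
    simp only [DJ1, Set.mem_insert_iff, Set.mem_singleton_iff] at h2
    omega
  rcases hs with h1 | h1 | h1 | h1 | h1 | h1 | h1 | h1 | h1 | h1 | h1 | h1 | h1 | h1 | h1 | h1 | h1 | h1 | h1 | h1 | h1 | h1 | h1 | h1 | h1 | h1
  · exact (dj1_small hA h h0 (has_of_mem (H603.FD.Spor.m11 (show IsM11 S from ⟨hA.simple, NotCT.Orders.m11 h1⟩)).1) (by norm_num)
      (by norm_num)).elim
  · exact (h45 45 (has_of_mem (H603.FD.Spor.m12 (show IsM12 S from ⟨hA.simple, NotCT.Orders.m12 h1⟩)).2.1) (by norm_num)).elim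
  · exact (dj1_small hA h h0 (has_m22 h1).1 (by norm_num) (by norm_num)).elim
  · exact (dj1_big hA h (NotCT.Orders.m23 h1) 23 (by norm_num) (by norm_num) (by norm_num)).elim
  · exact (dj1_big hA h (NotCT.Orders.m24 h1) 23 (by norm_num) (by norm_num) (by norm_num)).elim
  · obtain ⟨e⟩ := h1
    obtain ⟨f⟩ := hX
    exact ⟨e.trans f.symm⟩
  · exact (h45 36 (H953.DS.exists_irr h1).1 (by norm_num)).elim
  · exact (dj1_big hA h (NotCT.Orders.j3 h1) 17 (by norm_num) (by norm_num) (by norm_num)).elim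
  · exact (dj1_big hA h (NotCT.Orders.j4 h1) 23 (by norm_num) (by norm_num) (by norm_num)).elim
  · exact (dj1_big hA h (NotCT.Orders.co1 h1) 23 (by norm_num) (by norm_num) (by norm_num)).elim
  · exact (dj1_big hA h (NotCT.Orders.co2 h1) 23 (by norm_num) (by norm_num) (by norm_num)).elim
  · exact (dj1_big hA h (NotCT.Orders.co3 h1) 23 (by norm_num) (by norm_num) (by norm_num)).elim
  · exact (dj1_small hA h h0 (H765.DS.HSMcL.mcl_22 h1) (by norm_num) (by norm_num)).elim
  · exact (dj1_small hA h h0 (H765.DS.HSMcL.hs_22 h1) (by norm_num) (by norm_num)).elim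
  · exact (dj1_big hA h (NotCT.Orders.suz h1) 13 (by norm_num) (by norm_num) (by norm_num)).elim
  · exact (dj1_big hA h (NotCT.Orders.he h1) 17 (by norm_num) (by norm_num) (by norm_num)).elim
  · exact (dj1_big hA h (NotCT.Orders.ru h1) 13 (by norm_num) (by norm_num) (by norm_num)).elim
  · exact (dj1_big hA h (NotCT.Orders.on h1) 31 (by norm_num) (by norm_num) (by norm_num)).elim
  · exact (dj1_big hA h (NotCT.Orders.ly h1) 31 (by norm_num) (by norm_num) (by norm_num)).elim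
  · exact (dj1_big hA h (NotCT.Orders.fi22 h1) 13 (by norm_num) (by norm_num) (by norm_num)).elim
  · exact (dj1_big hA h (NotCT.Orders.fi23 h1) 13 (by norm_num) (by norm_num) (by norm_num)).elim
  · exact (dj1_big hA h (NotCT.Orders.fi24 h1) 13 (by norm_num) (by norm_num) (by norm_num)).elim
  · obtain ⟨e⟩ := h1
    have k1 : Has S 8910 := by
      obtain ⟨χ, hχ⟩ := H492.IMHN.exists_8910
      exact Has.congr e ⟨χ, χ.2, hχ⟩
    exact (h45 8910 k1 (by norm_num)).elim
  · exact (dj1_big hA h (NotCT.Orders.th h1) 13 (by norm_num) (by norm_num) (by norm_num)).elim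
  · exact (dj1_big hA h (NotCT.Orders.b h1) 13 (by norm_num) (by norm_num) (by norm_num)).elim
  · exact (dj1_big hA h (NotCT.Orders.m h1) 13 (by norm_num) (by norm_num) (by norm_num)).elim

/-- **S4908, SOC1, `J₁`** -/
theorem soc1_J1 {X : Type v} [Group X] [Finite X] (hX : IsJ1 X) (D : Set ℕ) (hD : Deg 1 X D) : Soc1.{u} D X := by
  have h1 : D = DJ1 := by
    rcases hD with h | ⟨h, -⟩
    · rw [h, J1Deg.charDegrees_eq hX]
    · norm_num at h
  subst h1
  have hs := hX.1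
  have hI : Spor.IsoJ1 X := Cfsg.Agent.S4273.isoJ1 hX.2
  intro A _ _ S hA h
  exact soc1_of (X := X) dj1_pp dj1_alt (dj1_13 (by norm_num) (by norm_num))
    (fun hA h hS => dj1_spor hI hA h hS) hA h

end Cfsg.Agent.H815.S8
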