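import Cfsg.Agent.H704.S8.Defs
import Cfsg.Agent.H487.AN.RowsB
import Cfsg.Agent.H487.AN.Alt
import Cfsg.Agent.H487.AN.LieSmall
import Cfsg.Agent.H816.OutEmb
import Cfsg.Agent.H149.Sp.Engine
import Cfsg.Agent.S4906

/-!
# S4908, SOC1: tools (helper815, after helper487)
-/

set_option autoImplicit false

namespace Cfsg.Agent.H815.S8

open Cfsg Subgroup
open Cfsg.Agent.H691.AN (AlmostSimple)
open Cfsg.Agent.H704.DS (IM)
open Cfsg.Agent.H487.AN (Has)

universe u v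

section

variable {A : Type u} [Group A] [Finite A] {S : Subgroup A} {D : Set ℕ}

theorem as_IM (hA : AlmostSimple A S) : IM S := by
  have := hA.simple
  exact Cfsg.Agent.S4906.im_of hA.nonab

omit [Finite A] in
theorem as_index (hA : AlmostSimple A S) : S.index ∣ Nat.card (Cfsg.Out S) := by
  have := hA.normal
  exact H816.OutEmb.index_dvd S (by rw [hA.cent]; exact bot_le)

/-- the primes of `|S|` divide degrees -/
theorem as_prime (hA : AlmostSimple A S) (h : charDegrees A ⊆ D) {p : ℕ} (hp : p.Prime) (hd : p ∣ Nat.card S) :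
    ∃ d ∈ D, p ∣ d := by
  have := hA.normal
  obtain ⟨ψ, e, h1, h2, h3⟩ := as_IM hA p hp hd
  obtain ⟨d, h4, h5, -⟩ := H424.DegTools.clifford_up S (H681.DegBasic.mem_charDegrees.2 ⟨ψ, h1, h2⟩)
  exact ⟨d, h h4, h3.trans h5⟩

/-- over a degree of `S` -/
theorem as_has (hA : AlmostSimple A S) (h : charDegrees A ⊆ D) {m : ℕ} (hm : Has S m) (hm0 : 0 < m) :
    ∃ k, k ∣ S.index ∧ m * k ∈ D := by
  have := hA.normal
  obtain ⟨ψ, h1, h2⟩ := hm
  obtain ⟨d, h3, ⟨k, rfl⟩, h5⟩ := H424.DegTools.clifford_up S (H681.DegBasic.mem_charDegrees.2 ⟨ψ, h1, h2⟩)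
  rw [Nat.mul_div_cancel_left _ hm0] at h5
  exact ⟨k, h5, h h3⟩

theorem as_has_one (hA : AlmostSimple A S) (h : charDegrees A ⊆ D) {m : ℕ} (hm : Has S m) (hm0 : 0 < m)
    (hi : S.index ∣ 1) : m ∈ D := by
  obtain ⟨k, h1, h2⟩ := as_has hA h hm hm0
  have h3 := h1.trans hi
  have : k = 1 := Nat.dvd_one.1 h3
  rwa [this, mul_one] at h2

theorem as_has_two (hA : AlmostSimple A S) (h : charDegrees A ⊆ D) {m : ℕ} (hm : Has S m) (hm0 : 0 < m)
    (hi : S.index ∣ 2) : m ∈ D ∨ 2 * m ∈ D := by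
  obtain ⟨k, h1, h2⟩ := as_has hA h hm hm0
  rcases (Nat.dvd_prime Nat.prime_two).1 (h1.trans hi) with rfl | rfl
  · left; rwa [mul_one] at h2
  · right; rwa [mul_comm]

/-- the index of a sporadic socle -/
theorem as_index_spor (hA : AlmostSimple A S) (h : IsSporadicGroup S) : S.index ∣ 2 :=
  (as_index hA).trans (H149.Sp.card_out_dvd_two h)

/-- the Steinberg character -/
theorem as_lie (hA : AlmostSimple A S) (h : charDegrees A ⊆ D) {p : ℕ} (hp : p.Prime) (hl : IsLieTypeChar p S) :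
    ∃ k, 0 < k ∧ p ^ k ∈ D ∧ (Nat.card S).factorization p = k := by
  have := hA.normal
  have := hA.simple
  have := Fact.mk hp
  obtain ⟨χ, hχ, -, hχ1⟩ := H691.StExt.exists_ext S (H996.AllSplit.hasSplit_of_lie hp hl)
  obtain ⟨Q⟩ := (inferInstance : Nonempty (Sylow p S))
  have h1 := hχ1 Q
  rw [Q.card_eq_multiplicity] at h1
  have h2 : p ^ (Nat.card S).factorization p ∈ charDegrees A := H681.DegBasic.mem_charDegrees.2 ⟨χ, hχ, h1⟩
  refine ⟨_, ?_, h h2, rfl⟩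
  obtain ⟨t, k, hv, ht⟩ := NotCT.exists_typ hp hl
  have ho := NotCT.card_eq hp hv ht
  refine hp.factorization_pos_of_dvd Nat.card_pos.ne' (dvd_trans ?_ (NotCT.dvd_card hp hv ho))
  exact dvd_pow_self p (Nat.mul_pos (NotCT.one_le_k hv) (NotCT.N_pos hv)).ne'

/-- the alternating groups -/
theorem as_alt (hA : AlmostSimple A S) (h : charDegrees A ⊆ D) {n : ℕ} (hn : 7 ≤ n)
    (e : S ≃* alternatingGroup (Fin n)) : n - 1 ∈ D ∧ ∀ r : ℕ, r.Prime → r ≤ n → ∃ d ∈ D, r ∣ d := by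
  have := hA.normal
  obtain ⟨χ, hχ, -, h1⟩ := H464.AltExt.alt_ext S hn e
  refine ⟨h (H681.DegBasic.mem_charDegrees.2 ⟨χ, hχ, h1⟩), fun r hr hrn => as_prime hA h hr ?_⟩
  rw [Nat.card_congr e.toEquiv]
  exact H759.DS.prime_dvd_alt (by omega) hr hrn

/-- the alternating groups of degree `5, 6` -/
theorem as_alt_small (hA : AlmostSimple A S) (h : charDegrees A ⊆ D) {n : ℕ} (h5 : 5 ≤ n) (hn : n < 7)
    (e : S ≃* alternatingGroup (Fin n)) : ∃ p k, p.Prime ∧ 0 < k ∧ p ^ k ∈ D := by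
  have := hA.simple
  have := hA.normal
  rcases (show n = 5 ∨ n = 6 by omega) with rfl | rfl
  · obtain ⟨k, h1, h2, -⟩ := as_lie hA h Nat.prime_two (H759.DS.lie_four S e)
    exact ⟨2, k, Nat.prime_two, h1, h2⟩
  · obtain ⟨k, h1, h2, -⟩ := as_lie hA h Nat.prime_three (H759.DS.lie_nine S e)
    exact ⟨3, k, Nat.prime_three, h1, h2⟩

/-- **SOC1** from: no prime powers, no `m - 1`, no prime 13, the sporadic socles -/
theorem soc1_of {X : Type v} [Group X] (hpp : ∀ p k : ℕ, p.Prime → 0 < k → p ^ k ∉ D)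
    (halt : ∀ n, 7 ≤ n → n - 1 ∈ D → (∀ r : ℕ, r.Prime → r ≤ n → ∃ d ∈ D, r ∣ d) → False)
    (h13 : ¬ ∃ d ∈ D, 13 ∣ d)
    (hspor : ∀ {A : Type u} [Group A] [Finite A] {S : Subgroup A}, AlmostSimple A S → charDegrees A ⊆ D →
      IsSporadicGroup S → Nonempty (S ≃* X)) : Cfsg.Agent.H704.S8.Soc1.{u} D X := by
  intro A _ _ S hA h
  have := hA.simple
  rcases PreUniq.known_cases (Cfsg.Agent.S0000.result (G := S)) with h1 | ⟨m, hm, ⟨e⟩⟩ | ⟨p, hp, h1⟩ | h1 | h1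
  · exfalso
    have : Fact (Nat.card S).Prime := ⟨h1⟩
    have : IsCyclic S := isCyclic_of_prime_card (p := Nat.card S) rfl
    exact hA.nonab inferInstance
  · exfalso
    rcases Nat.lt_or_ge m 7 with h7 | h7
    · obtain ⟨p, k, h2, h3, h4⟩ := as_alt_small hA h hm h7 e
      exact hpp p k h2 h3 h4
    · obtain ⟨h2, h3⟩ := as_alt hA h h7 e
      exact halt m h7 h2 h3
  · exfalso
    obtain ⟨k, h2, h3, -⟩ := as_lie hA h hp h1
    exact hpp p k hp h2 h3
  · exfalso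
    refine h13 (as_prime hA h (by norm_num) ?_)
    rw [NotCT.Orders.tits h1]
    norm_num
  · exact hspor hA h h1

end

end Cfsg.Agent.H815.S8
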